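import Cfsg.Agent.H396.EP.OwnThree
import Cfsg.Agent.H729.EPM.RowSLNine
import Cfsg.Agent.H825.EP.U9

/-!
# S3499, own characteristic: `L₃(q²) < L₉(q)` and `L₃(q²) < U₉(q)` (helper35, task 6153)
-/

set_option autoImplicit false

namespace Cfsg.Agent.H35.EP

open Subgroup Cfsg.Agent.H284 Cfsg.Agent.H419.EP
open scoped MatrixGroups

/-- `|Q| ≤ ...` from `r ≤ 2 |L| ^ 2` -/
theorem card_le_of_r {Q : Type*} [Group Q] [Finite Q] (hs : IsSimpleGroup Q) {A : Subgroup Q} {Γ : Subgroup (MulAut Q)}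
    (h : EPT A Γ) {L : Type*} [Group L] [Finite L] (hS : HasSoc A L) (hL : IsSimpleGroup L)
    (hp : ¬ (Nat.card L).Prime)
    (hr : {M : Subgroup Q | ∃ x, x ∉ A ∧ M = A ⊓ cj x A}.ncard ≤ 2 * Nat.card L ^ 2) :
    Nat.card Q ≤ Nat.card A * (1 + 2 * Nat.card L ^ 2 * (2 * (Nat.card A / 6))) := by
  have hab : ∀ K : Subgroup Q, K ≤ A → (∀ a ∈ A, ∀ k ∈ K, a * k * a⁻¹ ∈ K) → (∀ a ∈ K, ∀ b ∈ K, a * b = b * a) →
      K = ⊥ := fun K hK hn hc =>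
    HasSoc.no_abelian hS hL (Cfsg.Agent.H396.EP.ncomm_of_not_prime hL hp) hK hn hc
  have h1 := Cfsg.Agent.H173.EP.ub1 hs h (by norm_num) (fun _ hx => Cfsg.Agent.H59.EP.EPT.six_le h hab hx)
  rw [← A.card_mul_index]
  refine Nat.mul_le_mul_left _ (h1.trans (Nat.add_le_add_left ?_ _))
  exact Nat.mul_le_mul_right _ hr

/-- the numbers -/
theorem num9 {q f a l P n : ℕ} (hq : 2 ≤ q) (hf : f ≤ q ^ 2) (ha : a ≤ 2 * f * P) (hP : P ≤ q ^ 16) (hl : l ≤ P)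
    (hi : n ≤ a * (1 + 2 * l ^ 2 * (2 * (a / 6)))) : n ≤ 5 * q ^ 68 := by
  have h1 : 3 * n ≤ 3 * a + 2 * l ^ 2 * a ^ 2 := by
    have h2 : 6 * (a / 6) ≤ a := Nat.mul_div_le a 6
    calc 3 * n ≤ 3 * (a * (1 + 2 * l ^ 2 * (2 * (a / 6)))) := Nat.mul_le_mul_left _ hi
      _ = 3 * a + 2 * l ^ 2 * a * (6 * (a / 6)) := by ring
      _ ≤ 3 * a + 2 * l ^ 2 * a * a := Nat.add_le_add_left (Nat.mul_le_mul_left _ h2) _
      _ = _ := by ring
  have ha' : a ≤ 2 * q ^ 18 := by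
    calc a ≤ 2 * f * P := ha
      _ ≤ 2 * q ^ 2 * q ^ 16 := Nat.mul_le_mul (Nat.mul_le_mul_left _ hf) hP
      _ = _ := by ring
  have hl' : l ≤ q ^ 16 := hl.trans hP
  have h3 : 2 * l ^ 2 * a ^ 2 ≤ 8 * q ^ 68 := by
    calc 2 * l ^ 2 * a ^ 2 ≤ 2 * (q ^ 16) ^ 2 * (2 * q ^ 18) ^ 2 :=
          Nat.mul_le_mul (Nat.mul_le_mul_left _ (Nat.pow_le_pow_left hl' 2)) (Nat.pow_le_pow_left ha' 2)
      _ = _ := by ring
  have h4 : 6 * q ^ 18 ≤ q ^ 68 := by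
    have h5 : 2 ^ 50 ≤ q ^ 50 := Nat.pow_le_pow_left hq 50
    calc 6 * q ^ 18 ≤ q ^ 50 * q ^ 18 := Nat.mul_le_mul_right _ (le_trans (by norm_num) h5)
      _ = _ := by ring
  omega

/-- the orders attached to `PSL₃(K)`, `|K| = q²` -/
theorem orders {K : Type*} [Field K] [Fintype K] {q : ℕ} (hK : Fintype.card K = q ^ 2) (hq : 2 ≤ q) :
    ∃ f P : ℕ, f ≤ q ^ 2 ∧ P ≤ q ^ 16 ∧ Nat.card (Matrix.ProjectiveSpecialLinearGroup (Fin 3) K) ≤ P ∧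
      Nat.card (MulAut (Matrix.ProjectiveSpecialLinearGroup (Fin 3) K)) = 2 * f * P := by
  obtain ⟨p, f, hp, hf, hpf⟩ := (isPrimePow_nat_iff _).1 (FiniteField.isPrimePow_card K)
  have : Fact p.Prime := ⟨hp⟩
  have h1 := S0813.result (F := K) p f hf hpf.symm 3 (by norm_num) (by norm_num)
  have h2 := S0265.result (F := K) 3
  have h3 := S0242.result (F := K) rfl 3 (by norm_num)
  have h4 := S0243.result (F := K) rfl 3 (by norm_num)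
  rw [if_neg (by norm_num)] at h1
  rw [Fin.prod_univ_three] at h3 h4
  simp only [Fin.val_zero, Fin.val_one, Fin.val_two] at h3 h4
  refine ⟨f, _, ?_, ?_, ?_, h1⟩
  · rw [← hK, ← hpf]
    exact (Nat.lt_pow_self hp.one_lt).le
  · rw [h2]
    clear h1 h4
    generalize Nat.card (Matrix.SpecialLinearGroup (Fin 3) K) = P at *
    rw [hK] at h3
    have hQ : 2 ≤ q ^ 2 := by nlinarith
    have h5 : (q ^ 2 - 1) * P = (q ^ 2 - 1) * ((q ^ 2) ^ 3 * (((q ^ 2) ^ 2 - 1) * ((q ^ 2) ^ 3 - 1))) := by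
      rw [h3]
      generalize q ^ 2 = Q at *
      have e0 : Q ^ 3 - Q ^ 0 = Q ^ 3 - 1 := by rw [pow_zero]
      have e1 : Q ^ 3 - Q ^ 1 = Q * (Q ^ 2 - 1) := by rw [Nat.mul_sub]; ring_nf
      have e2 : Q ^ 3 - Q ^ 2 = Q ^ 2 * (Q - 1) := by rw [Nat.mul_sub]; ring_nf
      rw [e0, e1, e2]
      ring
    have h6 := Nat.eq_of_mul_eq_mul_left (by omega) h5
    rw [h6]
    calc (q ^ 2) ^ 3 * (((q ^ 2) ^ 2 - 1) * ((q ^ 2) ^ 3 - 1)) ≤ (q ^ 2) ^ 3 * ((q ^ 2) ^ 2 * (q ^ 2) ^ 3) :=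
          Nat.mul_le_mul_left _ (Nat.mul_le_mul (Nat.sub_le _ _) (Nat.sub_le _ _))
      _ = _ := by ring
  · rw [h2]
    have hq0 : 0 < Fintype.card K - 1 := by
      have : 1 < Fintype.card K := Fintype.one_lt_card
      omega
    have h5 : Nat.gcd 3 (Fintype.card K - 1) * Nat.card (Matrix.ProjectiveSpecialLinearGroup (Fin 3) K) =
        Nat.card (Matrix.SpecialLinearGroup (Fin 3) K) := by
      apply Nat.eq_of_mul_eq_mul_left hq0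
      rw [h3, ← h4]; ring
    rw [← h5]
    exact Nat.le_mul_of_pos_left _ (Nat.gcd_pos_of_pos_left _ (by norm_num))

/-- the order of `Q` -/
theorem card_Q_le (hg : Cfsg.Agent.H59.EP.TwoGen.{0}) {Q : Type*} [Group Q] [Finite Q] (hs : IsSimpleGroup Q)
    {A : Subgroup Q} {Γ : Subgroup (MulAut Q)} (h : EPT A Γ) {K : Type*} [Field K] [Fintype K] {q : ℕ}
    (hK : Fintype.card K = q ^ 2) (hq : 2 ≤ q)
    (hS : HasSoc A (Matrix.ProjectiveSpecialLinearGroup (Fin 3) K)) : Nat.card Q ≤ 5 * q ^ 68 := by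
  obtain ⟨f, P, h1, h2, h3, h4⟩ := orders hK hq
  have hLs : IsSimpleGroup (Matrix.ProjectiveSpecialLinearGroup (Fin 3) K) := S0249.result 3 (by norm_num)
  have hA := HasSoc.card_le hS
  rw [h4] at hA
  exact num9 hq h1 hA h2 h3 (card_le_of_r hs h hS hLs Cfsg.Agent.H396.EP.not_prime_psl3
    (Cfsg.Agent.H396.EP.r_psl3 hg h hS))

/-- the numbers of `L₃(q²) < L₉(q)` -/
theorem nine_num {q n : ℕ} (hq : 2 ≤ q) (h1 : n ≤ 5 * q ^ 68) (h2 : (q ^ (9 - 1) * (q - 1)) ^ 9 ≤ n * (q - 1) ^ 2) :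
    False := by
  obtain ⟨t, ht⟩ : ∃ t, t = q - 1 := ⟨_, rfl⟩
  rw [← ht] at h2
  have ht1 : 1 ≤ t := by omega
  have h3 : (q ^ (9 - 1) * t) ^ 9 = (q ^ 4 * q ^ 68 * t ^ 7) * t ^ 2 := by
    rw [mul_pow, ← pow_mul, ← pow_add, mul_assoc, ← pow_add]
  rw [h3] at h2
  have h4 := Nat.le_of_mul_le_mul_right h2 (pow_pos ht1 2)
  have h8 : 2 ^ 4 ≤ q ^ 4 := Nat.pow_le_pow_left hq 4
  have h9 : 0 < q ^ 68 := pow_pos (by omega) 68
  have h10 : 1 ≤ t ^ 7 := Nat.one_le_pow _ _ ht1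
  generalize q ^ 68 = u at *
  generalize q ^ 4 = v at *
  generalize t ^ 7 = w at *
  have h5 : v * u ≤ 5 * u := by
    calc v * u = v * u * 1 := (mul_one _).symm
      _ ≤ v * u * w := Nat.mul_le_mul_left _ h10
      _ ≤ n := h4
      _ ≤ _ := h1
  have h7 := Nat.le_of_mul_le_mul_right h5 h9
  omega

/-- **`L₃(q²) < L₉(q)`** : `hown` of `H729.EPM.row_sl_nine` -/
theorem l3_nine (hg : Cfsg.Agent.H59.EP.TwoGen.{0}) {Q : Type*} [Group Q] [Finite Q] (hs : IsSimpleGroup Q)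
    {A : Subgroup Q} {Γ : Subgroup (MulAut Q)} (h : EPT A Γ) {F : Type*} [Field F] [Fintype F]
    (m : Model Q (Cfsg.Geo.specialLinear (Fin 9) F)) {K : Type*} [Field K] [Fintype K]
    (hK : Fintype.card K = Fintype.card F ^ 2)
    (hS : HasSoc A (Matrix.ProjectiveSpecialLinearGroup (Fin 3) K)) : False := by
  have hq : 2 ≤ Fintype.card F := Fintype.one_lt_card
  have h1 := card_Q_le hg hs h hK hq hS
  have h2 := (Cfsg.Agent.H729.EPM.le_card_gl (F := F) (n := 9)).trans (Cfsg.Agent.H729.EPM.card_gl_le m)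
  exact nine_num hq h1 h2

/-- **`L₃(q²) < U₉(q)`** : `hown` of `H825.EP.row` -/
theorem u3_nine (hg : Cfsg.Agent.H59.EP.TwoGen.{0}) {Q : Type*} [Group Q] [Finite Q] (hs : IsSimpleGroup Q)
    {A : Subgroup Q} {Γ : Subgroup (MulAut Q)} (h : EPT A Γ) {F : Type*} [Field F] [Fintype F] {q : ℕ}
    (hF : Fintype.card F = q ^ 2) (m : Model Q (Cfsg.GU 9 F q ⊓ Cfsg.Geo.specialLinear (Fin 9) F))
    (hS : HasSoc A (Matrix.ProjectiveSpecialLinearGroup (Fin 3) F)) : False := by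
  have hq : 2 ≤ q := by
    have h1 : 1 < Fintype.card F := Fintype.one_lt_card
    rw [hF] at h1
    by_contra h2
    have h3 : q = 0 ∨ q = 1 := by omega
    rcases h3 with rfl | rfl <;> norm_num at h1
  have h1 := card_Q_le hg hs h hF hq hS
  have h2 := Cfsg.Agent.H825.EP.card_nine hF m
  generalize Nat.card Q = n at *
  have e2 : 3 * q ^ 2 ≤ 4 * (q ^ 2 - 1) := by
    have : 2 ^ 2 ≤ q ^ 2 := Nat.pow_le_pow_left hq 2
    norm_num at this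
    omega
  have e4 : 3 * q ^ 4 ≤ 4 * (q ^ 4 - 1) := by
    have : 2 ^ 4 ≤ q ^ 4 := Nat.pow_le_pow_left hq 4
    norm_num at this
    omega
  have e6 : 3 * q ^ 6 ≤ 4 * (q ^ 6 - 1) := by
    have : 2 ^ 6 ≤ q ^ 6 := Nat.pow_le_pow_left hq 6
    norm_num at this
    omega
  have e8 : 3 * q ^ 8 ≤ 4 * (q ^ 8 - 1) := by
    have : 2 ^ 8 ≤ q ^ 8 := Nat.pow_le_pow_left hq 8
    norm_num at this
    omega
  have h3 : 81 * q ^ 80 ≤ 256 * (9 * n) := by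
    calc 81 * q ^ 80 = q ^ 36 * ((3 * q ^ 2) * q ^ 3 * (3 * q ^ 4) * q ^ 5 * (3 * q ^ 6) * q ^ 7 * (3 * q ^ 8) * q ^ 9) := by
          ring
      _ ≤ q ^ 36 * ((4 * (q ^ 2 - 1)) * (q ^ 3 + 1) * (4 * (q ^ 4 - 1)) * (q ^ 5 + 1) * (4 * (q ^ 6 - 1)) *
            (q ^ 7 + 1) * (4 * (q ^ 8 - 1)) * (q ^ 9 + 1)) := by
          gcongr <;> omega
      _ = 256 * (q ^ 36 * ((q ^ 2 - 1) * (q ^ 3 + 1) * (q ^ 4 - 1) * (q ^ 5 + 1) * (q ^ 6 - 1) * (q ^ 7 + 1) *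
            (q ^ 8 - 1) * (q ^ 9 + 1))) := by ring
      _ = 256 * (Nat.gcd 9 (q + 1) * n) := by rw [h2]
      _ ≤ _ := Nat.mul_le_mul_left _ (Nat.mul_le_mul_right _ (Nat.gcd_le_left _ (by norm_num)))
  have h4 : q ^ 80 = q ^ 12 * q ^ 68 := by ring
  have h5 : 2 ^ 12 * q ^ 68 ≤ q ^ 80 := by
    rw [h4]
    exact Nat.mul_le_mul_right _ (Nat.pow_le_pow_left hq 12)
  have h6 : 0 < q ^ 68 := by positivity
  norm_num at h5
  omega

end Cfsg.Agent.H35.EP
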